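/-
Way-out lemmas for natural transformations of triangulated functors between derived categories.
-/
import Groth.Agent.SiteCmpLib.Devissage

set_option autoImplicit false
set_option linter.style.haveILetI false

universe w w' v v' u u'

open CategoryTheory CategoryTheory.Limits CategoryTheory.Pretriangulated DerivedCategory

noncomputable section

namespace Groth.Agent.WayOutLib

variable {A : Type u} [Category.{v} A] [Abelian A] [HasDerivedCategory.{w} A]
  {B : Type u'} [Category.{v'} B] [Abelian B] [HasDerivedCategory.{w'} B]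

section Chase

variable {K : Type u'} [Category.{v'} K] [Abelian K] {A₂ A₃ A₄ A₅ B₂ B₃ B₄ B₅ : K}
  {g : A₂ ⟶ A₃} {d : A₃ ⟶ A₄} {f : A₄ ⟶ A₅} {g' : B₂ ⟶ B₃} {d' : B₃ ⟶ B₄} {f' : B₄ ⟶ B₅}

theorem four_mono {w₁ : d ≫ f = 0} (h₁ : (ShortComplex.mk d f w₁).Exact)
    {w₂ : g' ≫ d' = 0} (h₂ : (ShortComplex.mk g' d' w₂).Exact) (w₀ : g ≫ d = 0)
    (a₂ : A₂ ⟶ B₂) (a₃ : A₃ ⟶ B₃) (a₄ : A₄ ⟶ B₄) (a₅ : A₅ ⟶ B₅)
    (c₂ : g ≫ a₃ = a₂ ≫ g') (c₃ : d ≫ a₄ = a₃ ≫ d') (c₄ : f ≫ a₅ = a₄ ≫ f')
    (e₂ : Epi a₂) (m₃ : Mono a₃) (m₅ : Mono a₅) : Mono a₄ := by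
  refine (Preadditive.mono_iff_cancel_zero _).2 fun W x hx => ?_
  have h0 : x ≫ f = 0 := by
    rw [← cancel_mono a₅, zero_comp, Category.assoc, c₄, ← Category.assoc, hx, zero_comp]
  obtain ⟨W', π, _, y, hy⟩ := h₁.exact_up_to_refinements x h0
  dsimp at y hy
  have hy' : (y ≫ a₃) ≫ d' = 0 := by
    rw [Category.assoc, ← c₃, ← Category.assoc, ← hy, Category.assoc, hx, comp_zero]
  obtain ⟨W'', π', _, z, hz⟩ := h₂.exact_up_to_refinements _ hy'
  dsimp at z hz
  obtain ⟨W₃, π'', _, z', hz'⟩ := surjective_up_to_refinements_of_epi a₂ z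
  have e : π'' ≫ π' ≫ y = z' ≫ g := by
    rw [← cancel_mono a₃]
    simp only [Category.assoc]
    rw [hz, c₂, ← Category.assoc, hz', Category.assoc]
  rw [← cancel_epi π, ← cancel_epi π', ← cancel_epi π'', comp_zero, comp_zero, comp_zero, hy]
  have := congrArg (· ≫ d) e
  simp only [Category.assoc, w₀, comp_zero] at this
  exact this

theorem four_epi {w₁ : d ≫ f = 0} (h₁ : (ShortComplex.mk d f w₁).Exact)
    {w₂ : g' ≫ d' = 0} (h₂ : (ShortComplex.mk g' d' w₂).Exact) (w₀ : d' ≫ f' = 0)
    (a₂ : A₂ ⟶ B₂) (a₃ : A₃ ⟶ B₃) (a₄ : A₄ ⟶ B₄) (a₅ : A₅ ⟶ B₅)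
    (c₂ : g ≫ a₃ = a₂ ≫ g') (c₃ : d ≫ a₄ = a₃ ≫ d') (c₄ : f ≫ a₅ = a₄ ≫ f')
    (e₂ : Epi a₂) (e₄ : Epi a₄) (m₅ : Mono a₅) : Epi a₃ := by
  rw [epi_iff_surjective_up_to_refinements]
  intro W t
  obtain ⟨W₁, π, _, v, hv⟩ := surjective_up_to_refinements_of_epi a₄ (t ≫ d')
  have hv0 : v ≫ f = 0 := by
    rw [← cancel_mono a₅, zero_comp, Category.assoc, c₄, ← Category.assoc, ← hv]
    simp [w₀]
  obtain ⟨W₂, π', _, x, hx⟩ := h₁.exact_up_to_refinements v hv0
  dsimp at x hx
  have hd : (π' ≫ π ≫ t - x ≫ a₃) ≫ d' = 0 := by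
    rw [Preadditive.sub_comp, sub_eq_zero]
    simp only [Category.assoc]
    rw [hv, ← c₃, ← Category.assoc, hx, Category.assoc]
  obtain ⟨W₃, π₃, _, y, hy⟩ := h₂.exact_up_to_refinements _ hd
  dsimp at y hy
  obtain ⟨W₄, π₄, _, y', hy'⟩ := surjective_up_to_refinements_of_epi a₂ y
  refine ⟨W₄, π₄ ≫ π₃ ≫ π' ≫ π, inferInstance, π₄ ≫ π₃ ≫ x + y' ≫ g, ?_⟩
  simp only [Preadditive.add_comp, Category.assoc]
  rw [c₂, ← reassoc_of% hy', ← hy]
  simp [Preadditive.comp_sub]

end Chase

/-- Way-out right. -/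
def WayOutRight (F : DerivedCategory A ⥤ DerivedCategory B) : Prop :=
  ∀ n₁ : ℤ, ∃ n₂ : ℤ, ∀ Y : DerivedCategory A, Y.IsGE n₂ → (F.obj Y).IsGE n₁

/-- Way-out left. -/
def WayOutLeft (F : DerivedCategory A ⥤ DerivedCategory B) : Prop :=
  ∀ n₁ : ℤ, ∃ n₂ : ℤ, ∀ Y : DerivedCategory A, Y.IsLE n₂ → (F.obj Y).IsLE n₁

variable (F G : DerivedCategory A ⥤ DerivedCategory B) [F.CommShift ℤ] [G.CommShift ℤ]
  [F.IsTriangulated] [G.IsTriangulated] (η : F ⟶ G) [NatTrans.CommShift η ℤ]

local notation "H" => homologyFunctor B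

omit [G.CommShift ℤ] [G.IsTriangulated] in
theorem isIso_H_map_truncLTι (X : DerivedCategory A) (b j : ℤ)
    (h : (F.obj (((TStructure.t (C := A)).truncGE b).obj X)).IsGE (j + 1)) :
    IsIso ((H j).map (F.map (((TStructure.t (C := A)).truncLTι b).app X))) := by
  have hT := F.map_distinguished _ ((TStructure.t (C := A)).triangleLTGE_distinguished b X)
  let T := F.mapTriangle.obj (((TStructure.t (C := A)).triangleLTGE b).obj X)
  haveI : T.obj₃.IsGE (j + 1) := h
  haveI : Mono ((H j).map T.mor₁) :=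
    (HomologySequence.mono_homologyMap_mor₁_iff _ hT (j - 1) j (by omega)).2
      ((isZero_of_isGE T.obj₃ (j + 1) (j - 1) (by omega)).eq_of_src _ _)
  haveI : Epi ((H j).map T.mor₁) :=
    (HomologySequence.epi_homologyMap_mor₁_iff _ hT j).2
      ((isZero_of_isGE T.obj₃ (j + 1) j (by omega)).eq_of_tgt _ _)
  exact isIso_of_mono_of_epi ((H j).map T.mor₁)

omit [G.CommShift ℤ] [G.IsTriangulated] in
theorem isIso_H_map_truncGEπ (X : DerivedCategory A) (b j : ℤ)
    (h : (F.obj (((TStructure.t (C := A)).truncLT b).obj X)).IsLE (j - 1)) :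
    IsIso ((H j).map (F.map (((TStructure.t (C := A)).truncGEπ b).app X))) := by
  have hT := F.map_distinguished _ ((TStructure.t (C := A)).triangleLTGE_distinguished b X)
  let T := F.mapTriangle.obj (((TStructure.t (C := A)).triangleLTGE b).obj X)
  haveI : T.obj₁.IsLE (j - 1) := h
  haveI : Epi ((H j).map T.mor₂) :=
    (HomologySequence.epi_homologyMap_mor₂_iff _ hT j (j + 1) rfl).2
      ((isZero_of_isLE T.obj₁ (j - 1) (j + 1) (by omega)).eq_of_tgt _ _)
  haveI : Mono ((H j).map T.mor₂) :=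
    (HomologySequence.mono_homologyMap_mor₂_iff _ hT j).2
      ((isZero_of_isLE T.obj₁ (j - 1) j (by omega)).eq_of_src _ _)
  exact isIso_of_mono_of_epi ((H j).map T.mor₂)

variable (P : ObjectProperty A)

/-- Isomorphy on the objects of the class. -/
def IsoOn : Prop := ∀ X : A, P X → IsIso (η.app ((singleFunctor A 0).obj X))

variable {F G η P}
variable (hη : IsoOn F G η P)

include hη in
theorem isIso_of_bounded (X : DerivedCategory A) (a b : ℤ) [X.IsGE a] [X.IsLE b]
    (hX : ∀ i : ℤ, P ((homologyFunctor A i).obj X)) : IsIso (η.app X) := by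
  haveI : X.IsLE (a + ((b - a).toNat : ℕ)) :=
    (isLE_iff _ _).2 fun i hi => isZero_of_isLE X b i (by omega)
  exact SiteCmpLib.isIso_app_of_bounded F G η X a (b - a).toNat (fun q => hη _ (hX q))

variable [P.IsClosedUnderIsomorphisms]

include hη in
theorem isIso_of_plus (hF : WayOutRight F) (hG : WayOutRight G) (X : DerivedCategory A) (a : ℤ)
    [X.IsGE a] (hX : ∀ i : ℤ, P ((homologyFunctor A i).obj X)) : IsIso (η.app X) := by
  rw [DerivedCategory.isIso_iff]
  intro j
  obtain ⟨nF, hnF⟩ := hF (j + 1)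
  obtain ⟨nG, hnG⟩ := hG (j + 1)
  let b : ℤ := max (max (a + 1) nF) nG
  haveI := SiteCmpLib.isGE_truncLT X a b
  haveI : (((TStructure.t (C := A)).truncLT b).obj X).IsLE (b - 1) :=
    (TStructure.t (C := A)).isLE_truncLT_obj X b _ (by omega)
  haveI : IsIso (η.app (((TStructure.t (C := A)).truncLT b).obj X)) := by
    refine isIso_of_bounded hη _ a (b - 1) fun q => ?_
    rcases lt_or_ge q b with hq | hq
    · haveI := DCohLib.isIso_homology_truncLTι X b q hq
      exact P.prop_of_iso
        (asIso ((homologyFunctor A q).map (((TStructure.t (C := A)).truncLTι b).app X))).symm (hX q)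
    · exact P.prop_of_iso ((isZero_of_isGE X a (a - 1) (by omega)).iso
        (isZero_of_isLE (((TStructure.t (C := A)).truncLT b).obj X) (b - 1) q (by omega))) (hX (a - 1))
  have hge : (((TStructure.t (C := A)).truncGE b).obj X).IsGE b :=
    inferInstanceAs ((TStructure.t (C := A)).IsGE (((TStructure.t (C := A)).truncGE b).obj X) b)
  haveI := isIso_H_map_truncLTι F X b j (hnF _ ((TStructure.t (C := A)).isGE_of_ge _ nF b (by omega)))
  haveI := isIso_H_map_truncLTι G X b j (hnG _ ((TStructure.t (C := A)).isGE_of_ge _ nG b (by omega)))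
  have hn := congrArg (H j).map (η.naturality (((TStructure.t (C := A)).truncLTι b).app X))
  rw [Functor.map_comp, Functor.map_comp] at hn
  haveI : IsIso ((H j).map (F.map (((TStructure.t (C := A)).truncLTι b).app X)) ≫
      (H j).map (η.app X)) := hn ▸ inferInstance
  exact IsIso.of_isIso_comp_left ((H j).map (F.map (((TStructure.t (C := A)).truncLTι b).app X))) _

include hη in
theorem isIso_of_minus (hF : WayOutLeft F) (hG : WayOutLeft G) (X : DerivedCategory A) (a : ℤ)
    [X.IsLE a] (hX : ∀ i : ℤ, P ((homologyFunctor A i).obj X)) : IsIso (η.app X) := by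
  rw [DerivedCategory.isIso_iff]
  intro j
  obtain ⟨nF, hnF⟩ := hF (j - 1)
  obtain ⟨nG, hnG⟩ := hG (j - 1)
  let b : ℤ := min (min a nF) nG
  haveI : (((TStructure.t (C := A)).truncGE b).obj X).IsGE b :=
    inferInstanceAs ((TStructure.t (C := A)).IsGE (((TStructure.t (C := A)).truncGE b).obj X) b)
  haveI : (((TStructure.t (C := A)).truncGE b).obj X).IsLE a := (isLE_iff _ _).2 fun i hi => by
    haveI := DCohLib.isIso_homology_truncGEπ X b i (by omega)
    exact (isZero_of_isLE X a i hi).of_iso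
      (asIso ((homologyFunctor A i).map (((TStructure.t (C := A)).truncGEπ b).app X))).symm
  haveI : IsIso (η.app (((TStructure.t (C := A)).truncGE b).obj X)) := by
    refine isIso_of_bounded hη _ b a fun q => ?_
    rcases lt_or_ge q b with hq | hq
    · exact P.prop_of_iso ((isZero_of_isLE X a (a + 1) (by omega)).iso
        (isZero_of_isGE (((TStructure.t (C := A)).truncGE b).obj X) b q hq)) (hX (a + 1))
    · haveI := DCohLib.isIso_homology_truncGEπ X b q hq
      exact P.prop_of_iso
        (asIso ((homologyFunctor A q).map (((TStructure.t (C := A)).truncGEπ b).app X))) (hX q)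
  have hle : (((TStructure.t (C := A)).truncLT b).obj X).IsLE (b - 1) :=
    (TStructure.t (C := A)).isLE_truncLT_obj X b _ (by omega)
  haveI := isIso_H_map_truncGEπ F X b j (hnF _ ((TStructure.t (C := A)).isLE_of_le _ (b - 1) nF (by omega)))
  haveI := isIso_H_map_truncGEπ G X b j (hnG _ ((TStructure.t (C := A)).isLE_of_le _ (b - 1) nG (by omega)))
  have hn := congrArg (H j).map (η.naturality (((TStructure.t (C := A)).truncGEπ b).app X))
  rw [Functor.map_comp, Functor.map_comp] at hn
  haveI : IsIso ((H j).map (η.app X) ≫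
      (H j).map (G.map (((TStructure.t (C := A)).truncGEπ b).app X))) := hn ▸ inferInstance
  exact IsIso.of_isIso_comp_right _ ((H j).map (G.map (((TStructure.t (C := A)).truncGEπ b).app X)))

include hη in
theorem isIso_of_both (hP : ∀ Z : A, IsZero Z → P Z) (hF : WayOutRight F) (hG : WayOutRight G)
    (hF' : WayOutLeft F) (hG' : WayOutLeft G) (X : DerivedCategory A)
    (hX : ∀ i : ℤ, P ((homologyFunctor A i).obj X)) : IsIso (η.app X) := by
  have hT := (TStructure.t (C := A)).triangleLTGE_distinguished 0 X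
  haveI : (((TStructure.t (C := A)).truncGE 0).obj X).IsGE 0 :=
    inferInstanceAs ((TStructure.t (C := A)).IsGE (((TStructure.t (C := A)).truncGE 0).obj X) 0)
  haveI : (((TStructure.t (C := A)).truncLT 0).obj X).IsLE (-1) :=
    (TStructure.t (C := A)).isLE_truncLT_obj X 0 _ (by omega)
  refine SiteCmpLib.isoLocus_triangle F G η _ hT ?_ ?_
  · refine isIso_of_minus hη hF' hG' (((TStructure.t (C := A)).truncLT 0).obj X) (-1) fun q => ?_
    rcases lt_or_ge q 0 with hq | hq
    · haveI := DCohLib.isIso_homology_truncLTι X 0 q hq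
      exact P.prop_of_iso
        (asIso ((homologyFunctor A q).map (((TStructure.t (C := A)).truncLTι 0).app X))).symm (hX q)
    · exact hP _ (isZero_of_isLE (((TStructure.t (C := A)).truncLT 0).obj X) (-1) q (by omega))
  · refine isIso_of_plus hη hF hG (((TStructure.t (C := A)).truncGE 0).obj X) 0 fun q => ?_
    rcases lt_or_ge q 0 with hq | hq
    · exact hP _ (isZero_of_isGE (((TStructure.t (C := A)).truncGE 0).obj X) 0 q hq)
    · haveI := DCohLib.isIso_homology_truncGEπ X 0 q hq
      exact P.prop_of_iso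
        (asIso ((homologyFunctor A q).map (((TStructure.t (C := A)).truncGEπ 0).app X))) (hX q)

omit [P.IsClosedUnderIsomorphisms] in
theorem exists_bound_single (hF : WayOutRight F) :
    ∃ c : ℤ, ∀ (X : A) (j : ℤ), j < c → IsZero ((H j).obj (F.obj ((singleFunctor A 0).obj X))) := by
  obtain ⟨n, hn⟩ := hF 0
  refine ⟨-n, fun X j hj => ?_⟩
  haveI : (((singleFunctor A 0).obj X)⟦-n⟧).IsGE n :=
    (TStructure.t (C := A)).isGE_shift _ 0 (-n) n
  haveI := hn _ this
  haveI : ((F.obj ((singleFunctor A 0).obj X))⟦-n⟧).IsGE 0 :=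
    @CategoryTheory.Triangulated.TStructure.isGE_of_iso _ _ _ _ _ _ _ (TStructure.t (C := B)) _ _ ((F.commShiftIso (-n)).app _) 0 (hn _ ‹_›)
  haveI : (F.obj ((singleFunctor A 0).obj X)).IsGE (-n) :=
    (TStructure.t (C := B)).isGE_of_shift _ (-n) (-n) 0
  exact isZero_of_isGE _ (-n) j hj

omit [P.IsClosedUnderIsomorphisms] in
include hη in
theorem isIso_single_of_cogenerating (hP : ∀ X : A, ∃ (Y : A) (i : X ⟶ Y), P Y ∧ Mono i)
    (hF : WayOutRight F) (hG : WayOutRight G) (X : A) :
    IsIso (η.app ((singleFunctor A 0).obj X)) := by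
  let α : ∀ (Y : A) (j : ℤ), (H j).obj (F.obj ((singleFunctor A 0).obj Y)) ⟶
      (H j).obj (G.obj ((singleFunctor A 0).obj Y)) :=
    fun Y j => (H j).map (η.app _)
  obtain ⟨cF, hcF⟩ := exists_bound_single hF
  obtain ⟨cG, hcG⟩ := exists_bound_single hG
  suffices hmain : ∀ (k : ℕ) (j : ℤ), j < min cF cG + k → ∀ Y : A, IsIso (α Y j) by
    rw [DerivedCategory.isIso_iff]
    intro j
    exact hmain (j - min cF cG + 1).toNat j (by omega) X
  intro k
  induction k with
  | zero =>
    intro j hj Y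
    exact ⟨0, (hcF Y j (by omega)).eq_of_src _ _, (hcG Y j (by omega)).eq_of_src _ _⟩
  | succ k ih =>
    intro j hj
    have hlow : ∀ i, i < j → ∀ Y : A, IsIso (α Y i) := fun i hi => ih i (by omega)
    have step : ∀ Y₁ : A, ∃ (S : ShortComplex A) (hS : S.ShortExact), S.X₁ = Y₁ ∧ P S.X₂ := by
      intro Y₁
      obtain ⟨Y, i, hY, _⟩ := hP Y₁
      exact ⟨ShortComplex.mk i (cokernel.π i) (cokernel.condition i),
        { exact := ShortComplex.exact_of_g_is_cokernel _ (cokernelIsCokernel i) }, rfl, hY⟩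
    have hmono : ∀ Y₁ : A, Mono (α Y₁ j) := by
      intro Y₁
      obtain ⟨S, hS, rfl, hY⟩ := step Y₁
      haveI : IsIso (η.app ((singleFunctor A 0).obj S.X₂)) := hη _ hY
      let T := hS.singleTriangle
      let φ : F.mapTriangle.obj T ⟶ G.mapTriangle.obj T :=
        { hom₁ := η.app _
          hom₂ := η.app _
          hom₃ := η.app _
          comm₁ := η.naturality _
          comm₂ := η.naturality _
          comm₃ := by
            show (F.map T.mor₃ ≫ _) ≫ _ = η.app _ ≫ G.map T.mor₃ ≫ _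
            refine (Category.assoc _ _ _).trans
              ((congrArg (_ ≫ ·) (NatTrans.shift_app_comm η (1 : ℤ) T.obj₁)).trans ?_)
            exact η.naturality_assoc T.mor₃ _ }
      have hTF := F.map_distinguished _ hS.singleTriangle_distinguished
      have hTG := G.map_distinguished _ hS.singleTriangle_distinguished
      have hc : ∀ {U V : DerivedCategory A} (f : U ⟶ V) (i : ℤ),
          (H i).map (F.map f) ≫ (H i).map (η.app V) = (H i).map (η.app U) ≫ (H i).map (G.map f) :=
        fun {U V} f i => ((H i).map_comp _ _).symm.trans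
          ((congrArg (H i).map (η.naturality f)).trans ((H i).map_comp _ _))
      exact four_mono
        (HomologySequence.exact₁ _ hTF (j - 1) j (by omega))
        (HomologySequence.exact₃ _ hTG (j - 1) j (by omega))
        (HomologySequence.comp_δ _ hTF (j - 1) j (by omega))
        (α S.X₂ (j - 1)) (α S.X₃ (j - 1)) (α S.X₁ j) (α S.X₂ j)
        (hc _ (j - 1)) ((homologyFunctor B 0).homologySequenceδ_naturality _ _ φ (j - 1) j (by omega)).symm (hc _ j)
        (inferInstanceAs (Epi ((H (j - 1)).map (η.app _))))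
        (@IsIso.mono_of_iso _ _ _ _ _ (hlow (j - 1) (by omega) S.X₃))
        (inferInstanceAs (Mono ((H j).map (η.app _))))
    intro Y
    have hepi : ∀ Y₁ : A, Epi (α Y₁ j) := by
      intro Y₁
      obtain ⟨S, hS, rfl, hY⟩ := step Y₁
      haveI : IsIso (η.app ((singleFunctor A 0).obj S.X₂)) := hη _ hY
      let T := hS.singleTriangle
      let φ : F.mapTriangle.obj T ⟶ G.mapTriangle.obj T :=
        { hom₁ := η.app _
          hom₂ := η.app _
          hom₃ := η.app _
          comm₁ := η.naturality _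
          comm₂ := η.naturality _
          comm₃ := by
            show (F.map T.mor₃ ≫ _) ≫ _ = η.app _ ≫ G.map T.mor₃ ≫ _
            refine (Category.assoc _ _ _).trans
              ((congrArg (_ ≫ ·) (NatTrans.shift_app_comm η (1 : ℤ) T.obj₁)).trans ?_)
            exact η.naturality_assoc T.mor₃ _ }
      have hTF := F.map_distinguished _ hS.singleTriangle_distinguished
      have hTG := G.map_distinguished _ hS.singleTriangle_distinguished
      have hc : ∀ {U V : DerivedCategory A} (f : U ⟶ V) (i : ℤ),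
          (H i).map (F.map f) ≫ (H i).map (η.app V) = (H i).map (η.app U) ≫ (H i).map (G.map f) :=
        fun {U V} f i => ((H i).map_comp _ _).symm.trans
          ((congrArg (H i).map (η.naturality f)).trans ((H i).map_comp _ _))
      exact four_epi
        (HomologySequence.exact₂ _ hTF j)
        (HomologySequence.exact₁ _ hTG (j - 1) j (by omega))
        (((H j).map_comp _ _).symm.trans ((congrArg (H j).map (comp_distTriang_mor_zero₁₂ _ hTG)).trans ((H j).map_zero _ _)))
        (α S.X₃ (j - 1)) (α S.X₁ j) (α S.X₂ j) (α S.X₃ j)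
        ((homologyFunctor B 0).homologySequenceδ_naturality _ _ φ (j - 1) j (by omega)).symm (hc _ j) (hc _ j)
        (@IsIso.epi_of_iso _ _ _ _ _ (hlow (j - 1) (by omega) S.X₃))
        (inferInstanceAs (Epi ((H j).map (η.app _))))
        (hmono S.X₃)
    haveI := hmono Y
    haveI := hepi Y
    exact isIso_of_mono_of_epi _

end Groth.Agent.WayOutLib
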